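import Groth.Agent.FlatFunLimLib.Zero
import Groth.Agent.FlatFunShLib.Basic
import Groth.Agent.S4357
import Groth.Agent.ConsLib.ModLoci
import Groth.Agent.OmegaAffLib.StalkCrit
import Groth.Agent.QCohLib.QCoh
import Groth.Agent.FlatLib.SectionsFP
import Groth.Prelude.Def_AlgSpRep

/-!
# Limit preservation of the functors attached to a map of quasi-coherent modules
-/

set_option autoImplicit false

universe u

open CategoryTheory CategoryTheory.Limits AlgebraicGeometry Opposite

noncomputable section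

namespace FlatFunLimLib

open RichLib.LimBC FlatFunShLib

/-- The subfunctor of the final functor generated by a stable condition is limit preserving when the condition descends to a stage. -/
theorem isLimitPreserving_genPSp {S : Scheme.{u}} (P : Over S → Prop)
    (hP : ∀ ⦃T T₀ : Over S⦄ (_ : T ⟶ T₀), P T₀ → P T)
    (H : ∀ ⦃I : Type u⦄ [SmallCategory I] [IsCofiltered I] (D : I ⥤ Over S) (c : Cone D),
      IsLimit ((Over.forget S).mapCone c) → (∀ i, IsAffine (D.obj i).left) → P c.pt → ∃ i, P (D.obj i)) :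
    AlgSp.IsLimitPreserving (FlatFun.genPSp S P) := by
  intro I _ _ D c hc hD hpt
  refine ⟨Types.FilteredColimit.isColimitOf _ _ (fun x => ?_) fun i j xi xj _ => ?_⟩
  · obtain ⟨i, hi⟩ := H D c hc hD ((FlatFun.genPSp_nonempty_iff_of_stable P hP _).1 ⟨x⟩)
    exact ⟨op i, (FlatFun.genPSp_nonempty_of P hi).some,
      @Subsingleton.elim _ (FlatFun.genPSp_subsingleton S P _) _ _⟩
  · exact ⟨_, IsFiltered.leftToMax i j, IsFiltered.rightToMax i j,
      @Subsingleton.elim _ (FlatFun.genPSp_subsingleton S P _) _ _⟩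

section epi

variable {W : Scheme.{u}} {F G : W.Modules} (u : F ⟶ G) [Coh.IsQCoh F] [Coh.IsQCoh G] (hG : CohB1.IsFT G)

include hG in
theorem exists_locus_epi : ∃ O : W.Opens, ∀ (T : Scheme.{u}) (h : T ⟶ W),
    Set.range h.base ⊆ (O : Set W) ↔ Epi ((Scheme.Modules.pullback h).map u) := by
  have hC : CohB1.IsFT (cokernel u) := QCohLib.isFT_of_epi (cokernel.π u) hG
  haveI : Coh.IsQCoh (cokernel u) := QCohLib.isQCoh_cokernel u
  refine ⟨⟨(CohB1.support (cokernel u))ᶜ, (QCohLib.isClosed_support _ hC).isOpen_compl⟩, fun T h => ?_⟩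
  haveI : (Scheme.Modules.pullback h).PreservesZeroMorphisms := inferInstance
  haveI := (Scheme.Modules.pullbackPushforwardAdjunction h).leftAdjoint_preservesColimits
  have hsupp := Groth.Agent.S4357.result h (cokernel u) hC
  rw [Preadditive.epi_iff_isZero_cokernel,
    ← Iso.isZero_iff (PreservesCokernel.iso (Scheme.Modules.pullback h) u), KFlatLib.isZero_iff_forall_stalk]
  refine ⟨fun hr t => ?_, fun hz => ?_⟩
  · refine (DevissLib.notMem_support_iff _ t).1 ?_
    rw [hsupp]
    exact hr ⟨t, rfl⟩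
  · rintro _ ⟨t, rfl⟩
    have := (DevissLib.notMem_support_iff _ t).2 (hz t)
    rw [hsupp] at this
    exact this

variable {I : Type u} [SmallCategory I] [IsCofiltered I] (A : Sys I W)

include hG in
theorem exists_stage_epi [CompactSpace W] (h : Epi ((Scheme.Modules.pullback A.s).map u)) :
    ∃ i, Epi ((Scheme.Modules.pullback (A.t i)).map u) := by
  obtain ⟨O, hO⟩ := exists_locus_epi u hG
  have hr := (hO _ A.s).2 h
  haveI := A.compactSpace_obj
  haveI : ∀ {a b : I} (φ : a ⟶ b), IsAffineHom (A.D.map φ) := fun φ => A.affine_map φ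
  obtain ⟨i₀⟩ := IsCofiltered.nonempty (C := I)
  obtain ⟨k, φ, hk⟩ := exists_map_eq_top A.D A.c A.hc (A.t i₀ ⁻¹ᵁ O) (eq_top_iff.mpr fun x _ => by
    show (A.t i₀) ((A.c.π.app i₀) x) ∈ O
    rw [← Scheme.Hom.comp_apply, A.hs]
    exact hr ⟨x, rfl⟩)
  refine ⟨k, (hO _ (A.t k)).1 ?_⟩
  rintro _ ⟨y, rfl⟩
  have hy : (A.t i₀) ((A.D.map φ) y) ∈ O := hk.ge (Set.mem_univ y)
  rw [← Scheme.Hom.comp_apply, A.w φ] at hy
  exact hy

end epi

theorem isFT_of_isFP' {X : Scheme.{u}} {G : X.Modules} [Coh.IsQCoh G] (hG : CohB1.IsFP G) : CohB1.IsFT G :=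
  QCohLib.isFT_of_finite fun x => by
    obtain ⟨W, hW, -, hxW, hfp⟩ := FlatLib.exists_finitePresentation_nhd hG (x := x) (U := ⊤) trivial
    exact ⟨W, hW, hxW, inferInstance⟩

/-- The kernel of an epimorphism from finite type to finite presentation is of finite type. -/
theorem isFT_kernel {X : Scheme.{u}} {F G : X.Modules} [Coh.IsQCoh F] [Coh.IsQCoh G] (hF : CohB1.IsFT F)
    (hG : CohB1.IsFP G) (v : F ⟶ G) [Epi v] : CohB1.IsFT (kernel v) := by
  haveI : Coh.IsQCoh (kernel v) := QCohLib.isQCoh_kernel v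
  refine QCohLib.isFT_of_finite fun x => ?_
  obtain ⟨W, hW, -, hxW, hfp⟩ := FlatLib.exists_finitePresentation_nhd hG (x := x) (U := ⊤) trivial
  refine ⟨W, hW, hxW, ?_⟩
  haveI := hfp
  haveI : Module.Finite Γ(X, W) Γ(F, W) := QCohLib.finite_of_isFT hF hW
  let L : Γ(F, W) →ₗ[Γ(X, W)] Γ(G, W) :=
    { toFun := v.app W, map_add' := map_add _, map_smul' := fun r m => Scheme.Modules.Hom.app_smul v r m }
  let k : Γ(kernel v, W) →ₗ[Γ(X, W)] Γ(F, W) :=
    { toFun := (kernel.ι v).app W, map_add' := map_add _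
      map_smul' := fun r m => Scheme.Modules.Hom.app_smul (kernel.ι v) r m }
  have hk : LinearMap.range k = LinearMap.ker L := by
    ext m
    refine ⟨?_, fun hm => ?_⟩
    · rintro ⟨a, rfl⟩
      show v.app W ((kernel.ι v).app W a) = 0
      rw [← ConcreteCategory.comp_apply, ← Scheme.Modules.Hom.comp_app, kernel.condition]
      rfl
    · obtain ⟨a, ha⟩ := QCohLib.exists_of_app_eq_zero
        (S := ShortComplex.mk (kernel.ι v) v (kernel.condition v))
        (ShortComplex.exact_of_f_is_kernel _ (kernelIsKernel v)) inferInstance m hm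
      exact ⟨a, ha⟩
  have hfg : (LinearMap.range k).FG := hk ▸ Module.FinitePresentation.fg_ker L
    (OmegaAffLib.surjective_app_of_epi v hW)
  haveI : Module.Finite Γ(X, W) (LinearMap.range k) := Module.Finite.iff_fg.2 hfg
  exact Module.Finite.equiv (LinearEquiv.ofInjective k (QCohLib.app_injective_of_mono (kernel.ι v) W)).symm

variable {W : Scheme.{u}} {F G : W.Modules} (u : F ⟶ G) [Coh.IsQCoh F] [Coh.IsQCoh G]

/-- Composition of pullbacks, on maps. -/
def compArrowIso {Z Z' : Scheme.{u}} (m : Z' ⟶ Z) (h : Z ⟶ W) {h' : Z' ⟶ W} (e : m ≫ h = h') :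
    Arrow.mk ((Scheme.Modules.pullback m).map ((Scheme.Modules.pullback h).map u)) ≅
      Arrow.mk ((Scheme.Modules.pullback h').map u) :=
  let ψ := Scheme.Modules.pullbackComp m h ≪≫ Scheme.Modules.pullbackCongr e
  Arrow.isoMk (ψ.app F) (ψ.app G) (ψ.hom.naturality u).symm

/-- An isomorphism on the limit is an isomorphism at a stage. -/
theorem exists_stage_isIso {I : Type u} [SmallCategory I] [IsCofiltered I] (A : Sys I W) [CompactSpace W]
    (hF : CohB1.IsFT F) (hG : CohB1.IsFP G) (hGt : CohB1.IsFT G)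
    (h : IsIso ((Scheme.Modules.pullback A.s).map u)) :
    ∃ i, IsIso ((Scheme.Modules.pullback (A.t i)).map u) := by
  haveI := h
  obtain ⟨i, hi⟩ := exists_stage_epi u hGt A inferInstance
  haveI := hi
  haveI := A.compactSpace_obj i
  let v := (Scheme.Modules.pullback (A.t i)).map u
  haveI : Coh.IsQCoh ((Scheme.Modules.pullback (A.t i)).obj F) := KFlatLib.isQCoh_pullback (A.t i) F
  haveI : Coh.IsQCoh ((Scheme.Modules.pullback (A.t i)).obj G) := KFlatLib.isQCoh_pullback (A.t i) G
  haveI : Coh.IsQCoh (kernel v) := QCohLib.isQCoh_kernel v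
  have hK : CohB1.IsFT (kernel v) :=
    isFT_kernel (ConsLib.isFT_pullback (A.t i) F hF) (RichLib.ModFlat.isFP_pullback (A.t i) hG) v
  have hiso : IsIso ((Scheme.Modules.pullback (A.c.π.app i)).map v) :=
    ((MorphismProperty.isomorphisms _).arrow_mk_iso_iff (compArrowIso u (A.c.π.app i) (A.t i) (A.hs i))).2 h
  let A' : Sys (Over i) (A.D.obj i) := restart A i
  have hz : (Scheme.Modules.pullback A'.s).map (kernel.ι v) = 0 := by
    show (Scheme.Modules.pullback (A.c.π.app i)).map (kernel.ι v) = 0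
    haveI := hiso
    rw [← cancel_mono ((Scheme.Modules.pullback (A.c.π.app i)).map v), zero_comp, ← Functor.map_comp,
      kernel.condition, Functor.map_zero]
  obtain ⟨φ, hφ⟩ := exists_stage_zero (kernel.ι v) A' hK hz
  have hcol := ShortComplex.exact_of_f_is_kernel
    (ShortComplex.mk (kernel.ι v) v (kernel.condition v)) (kernelIsKernel v)
  haveI : Epi (ShortComplex.mk (kernel.ι v) v (kernel.condition v)).g := hi
  haveI := (Scheme.Modules.pullbackPushforwardAdjunction (A'.t φ)).leftAdjoint_preservesColimits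
  have hc := isColimitCoforkMapOfIsColimit' (Scheme.Modules.pullback (A'.t φ)) (kernel.condition v)
    hcol.gIsCokernel
  have hiso' : IsIso ((Scheme.Modules.pullback (A'.t φ)).map v) :=
    CokernelCofork.IsColimit.isIso_π _ hc hφ
  refine ⟨φ.left, ((MorphismProperty.isomorphisms _).arrow_mk_iso_iff ?_).1 hiso'⟩
  exact compArrowIso u (A.D.map φ.hom) (A.t i) (A.w φ.hom)

section glue

variable {S X : Scheme.{u}} (f : X ⟶ S)

/-- The system of base changed families over a stage. -/
def famSys [QuasiCompact f] {I : Type u} [SmallCategory I] [IsCofiltered I] (D : I ⥤ Over S) (c : Cone D)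
    (hc : IsLimit ((Over.forget S).mapCone c)) (hD : ∀ i, IsAffine (D.obj i).left) (i₀ : I) :
    Sys (Over i₀) (PicF.XT f (D.obj i₀)) :=
  haveI : ∀ (i j : I) (a : i ⟶ j), IsAffineHom ((D ⋙ Over.forget S).map a) := fun i j a => by
    haveI := hD i
    haveI := hD j
    exact isAffineHom_of_isAffine (D.map a).left
  pb (ofStage (D ⋙ Over.forget S) ((Over.forget S).mapCone c) hc i₀) (PicF.XTproj f (D.obj i₀))

theorem compactSpace_XT [QuasiCompact f] (T : Over S) [IsAffine T.left] : CompactSpace (PicF.XT f T) :=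
  haveI : QuasiCompact (PicF.XTproj f T) := inferInstanceAs (QuasiCompact (pullback.snd f T.hom))
  QuasiCompact.compactSpace_of_compactSpace (PicF.XTproj f T)

variable {F G : X.Modules} (u : F ⟶ G)

/-- Comparison between a base changed family and the pullback over a stage. -/
def famArrowIso {T T₀ : Over S} (g : T ⟶ T₀) :
    Arrow.mk ((Scheme.Modules.pullback (isPullback_XTmap f g).isoPullback.hom).map
      ((Scheme.Modules.pullback (pullback.fst (PicF.XTproj f T₀) g.left)).map
        ((Scheme.Modules.pullback (pullback.fst f T₀.hom)).map u))) ≅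
      Arrow.mk ((Scheme.Modules.pullback (pullback.fst f T.hom)).map u) :=
  compArrowIso _ _ _ (isPullback_XTmap f g).isoPullback_hom_fst ≪≫ arrowIso f u g

def famArrowIso' {T T₀ : Over S} (g : T ⟶ T₀) :
    Arrow.mk ((Scheme.Modules.pullback (pullback.fst (PicF.XTproj f T₀) g.left)).map
        ((Scheme.Modules.pullback (pullback.fst f T₀.hom)).map u)) ≅
      Arrow.mk ((Scheme.Modules.pullback (isPullback_XTmap f g).isoPullback.inv).map
        ((Scheme.Modules.pullback (pullback.fst f T.hom)).map u)) :=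
  (compArrowIso _ _ _ (Iso.eq_inv_comp _ |>.2 (isPullback_XTmap f g).isoPullback_hom_fst).symm).symm ≪≫
    (Functor.mapArrow (Scheme.Modules.pullback (isPullback_XTmap f g).isoPullback.inv)).mapIso (arrowIso f u g)

variable [QuasiCompact f] [Coh.IsQCoh F] [Coh.IsQCoh G]

theorem isLimitPreserving_epi (hG : CohB1.IsFT G) : AlgSp.IsLimitPreserving
    (FlatFun.genPSp S (fun T => Epi ((Scheme.Modules.pullback (pullback.fst f T.hom)).map u))) := by
  refine isLimitPreserving_genPSp _ (fun T T₀ g h => epi_stable f u g h) fun I _ _ D c hc hD hP => ?_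
  obtain ⟨i₀⟩ := IsCofiltered.nonempty (C := I)
  haveI := hD i₀
  haveI := compactSpace_XT f (D.obj i₀)
  haveI := KFlatLib.isQCoh_pullback (pullback.fst f (D.obj i₀).hom) F
  haveI := KFlatLib.isQCoh_pullback (pullback.fst f (D.obj i₀).hom) G
  have hs : Epi ((Scheme.Modules.pullback (pullback.fst (PicF.XTproj f (D.obj i₀)) (c.π.app i₀).left)).map
      ((Scheme.Modules.pullback (pullback.fst f (D.obj i₀).hom)).map u)) :=
    haveI := hP
    ((MorphismProperty.epimorphisms _).arrow_mk_iso_iff (famArrowIso' f u (T := c.pt) (c.π.app i₀))).2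
      (Functor.map_epi _ _)
  obtain ⟨φ, hφ⟩ := exists_stage_epi _ (ConsLib.isFT_pullback _ G hG) (famSys f D c hc hD i₀) hs
  refine ⟨φ.left, ((MorphismProperty.epimorphisms _).arrow_mk_iso_iff (famArrowIso f u (D.map φ.hom))).1 ?_⟩
  haveI : Epi ((Scheme.Modules.pullback (pullback.fst (PicF.XTproj f (D.obj i₀)) (D.map φ.hom).left)).map
      ((Scheme.Modules.pullback (pullback.fst f (D.obj i₀).hom)).map u)) := hφ
  exact Functor.map_epi _ _

theorem isLimitPreserving_iso (hF : CohB1.IsFT F) (hG : CohB1.IsFP G) (hGt : CohB1.IsFT G) :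
    AlgSp.IsLimitPreserving
      (FlatFun.genPSp S (fun T => IsIso ((Scheme.Modules.pullback (pullback.fst f T.hom)).map u))) := by
  refine isLimitPreserving_genPSp _ (fun T T₀ g h => iso_stable f u g h) fun I _ _ D c hc hD hP => ?_
  obtain ⟨i₀⟩ := IsCofiltered.nonempty (C := I)
  haveI := hD i₀
  haveI := compactSpace_XT f (D.obj i₀)
  haveI := KFlatLib.isQCoh_pullback (pullback.fst f (D.obj i₀).hom) F
  haveI := KFlatLib.isQCoh_pullback (pullback.fst f (D.obj i₀).hom) G
  have hs : IsIso ((Scheme.Modules.pullback (pullback.fst (PicF.XTproj f (D.obj i₀)) (c.π.app i₀).left)).map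
      ((Scheme.Modules.pullback (pullback.fst f (D.obj i₀).hom)).map u)) :=
    haveI := hP
    ((MorphismProperty.isomorphisms _).arrow_mk_iso_iff (famArrowIso' f u (T := c.pt) (c.π.app i₀))).2
      (Functor.map_isIso _ _)
  obtain ⟨φ, hφ⟩ := exists_stage_isIso _ (famSys f D c hc hD i₀) (ConsLib.isFT_pullback _ F hF)
    (RichLib.ModFlat.isFP_pullback _ hG) (ConsLib.isFT_pullback _ G hGt) hs
  refine ⟨φ.left, ((MorphismProperty.isomorphisms _).arrow_mk_iso_iff (famArrowIso f u (D.map φ.hom))).1 ?_⟩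
  haveI : IsIso ((Scheme.Modules.pullback (pullback.fst (PicF.XTproj f (D.obj i₀)) (D.map φ.hom).left)).map
      ((Scheme.Modules.pullback (pullback.fst f (D.obj i₀).hom)).map u)) := hφ
  exact Functor.map_isIso _ _

omit [QuasiCompact f] [Coh.IsQCoh F] [Coh.IsQCoh G] in
theorem eq_zero_of_arrowIso {C : Type*} [Category C] [HasZeroMorphisms C] {A B A' B' : C} {a : A ⟶ B} {b : A' ⟶ B'}
    (e : Arrow.mk a ≅ Arrow.mk b) (h : a = 0) : b = 0 := by
  have w : e.hom.left ≫ b = a ≫ e.hom.right := e.hom.w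
  haveI : IsIso e.hom.left := Arrow.isIso_left e.hom
  exact (cancel_epi e.hom.left).1 ((w.trans ((congrArg (· ≫ e.hom.right) h).trans zero_comp)).trans comp_zero.symm)

theorem isLimitPreserving_zero (hF : CohB1.IsFT F) : AlgSp.IsLimitPreserving
    (FlatFun.genPSp S (fun T => (Scheme.Modules.pullback (pullback.fst f T.hom)).map u = 0)) := by
  refine isLimitPreserving_genPSp _ (fun T T₀ g h => zero_stable f u g h) fun I _ _ D c hc hD hP => ?_
  obtain ⟨i₀⟩ := IsCofiltered.nonempty (C := I)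
  haveI := hD i₀
  haveI := compactSpace_XT f (D.obj i₀)
  haveI := KFlatLib.isQCoh_pullback (pullback.fst f (D.obj i₀).hom) F
  haveI := KFlatLib.isQCoh_pullback (pullback.fst f (D.obj i₀).hom) G
  have hs : (Scheme.Modules.pullback (pullback.fst (PicF.XTproj f (D.obj i₀)) (c.π.app i₀).left)).map
      ((Scheme.Modules.pullback (pullback.fst f (D.obj i₀).hom)).map u) = 0 :=
    eq_zero_of_arrowIso (famArrowIso' f u (T := c.pt) (c.π.app i₀)).symm ((congrArg _ hP).trans (Functor.map_zero _ _ _))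
  obtain ⟨φ, hφ⟩ := exists_stage_zero _ (famSys f D c hc hD i₀) (ConsLib.isFT_pullback _ F hF) hs
  refine ⟨φ.left, eq_zero_of_arrowIso (famArrowIso f u (D.map φ.hom)) ?_⟩
  exact (congrArg _ hφ).trans (Functor.map_zero _ _ _)

end glue

/-- Flatness of the base changes is limit preserving. -/
theorem isLimitPreserving_flat {S X : Scheme.{u}} (f : X ⟶ S) [QuasiCompact f] [LocallyOfFinitePresentation f]
    (F : X.Modules) [Coh.IsQCoh F] (hF : CohB1.IsFP F) : AlgSp.IsLimitPreserving
      (FlatFun.genPSp S (fun T => FlatMod.IsFlatOver (PicF.XTproj f T) (FGA.ET f F T))) := by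
  have stable : ∀ ⦃T T₀ : Over S⦄ (_ : T ⟶ T₀), FlatMod.IsFlatOver (PicF.XTproj f T₀) (FGA.ET f F T₀) →
      FlatMod.IsFlatOver (PicF.XTproj f T) (FGA.ET f F T) := fun T T₀ g h x => by
    haveI : Coh.IsQCoh (FGA.ET f F T₀) := KFlatLib.isQCoh_pullback _ F
    exact (RichLib.ModFlat.isFlatOverAt_iso _ (FGA.ETiso f F g) x).1
      (RGFlatLib.isFlatOver_pullback_of_isPullback (isPullback_XTmap f g) _ h x)
  refine isLimitPreserving_genPSp _ stable fun I _ _ D c hc hD hP => ?_
  obtain ⟨i₀⟩ := IsCofiltered.nonempty (C := I)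
  haveI := hD i₀
  haveI := compactSpace_XT f (D.obj i₀)
  haveI : Coh.IsQCoh (FGA.ET f F (D.obj i₀)) := KFlatLib.isQCoh_pullback _ F
  haveI : LocallyOfFinitePresentation (PicF.XTproj f (D.obj i₀)) :=
    inferInstanceAs (LocallyOfFinitePresentation (pullback.snd f (D.obj i₀).hom))
  haveI : ∀ (i j : I) (a : i ⟶ j), IsAffineHom ((D ⋙ Over.forget S).map a) := fun i j a => by
    haveI := hD i
    haveI := hD j
    exact isAffineHom_of_isAffine (D.map a).left
  have hfwd : FlatMod.IsFlatOver (pullback.snd (PicF.XTproj f (D.obj i₀)) (c.π.app i₀).left)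
      ((Scheme.Modules.pullback (pullback.fst (PicF.XTproj f (D.obj i₀)) (c.π.app i₀).left)).obj
        (FGA.ET f F (D.obj i₀))) := by
    let e := (isPullback_XTmap f (c.π.app i₀)).isoPullback
    have sq : IsPullback e.inv (pullback.snd (PicF.XTproj f (D.obj i₀)) (c.π.app i₀).left)
        (PicF.XTproj f c.pt) (𝟙 _) := IsPullback.of_horiz_isIso ⟨by
      rw [Category.comp_id, Iso.inv_comp_eq]
      exact (isPullback_XTmap f (c.π.app i₀)).isoPullback_hom_snd.symm⟩
    haveI : Coh.IsQCoh (FGA.ET f F c.pt) := KFlatLib.isQCoh_pullback _ F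
    intro x
    refine (RichLib.ModFlat.isFlatOverAt_iso _ ?_ x).1
      (RGFlatLib.isFlatOver_pullback_of_isPullback sq _ hP x)
    exact (Scheme.Modules.pullback e.inv).mapIso (FGA.ETiso f F (c.π.app i₀)).symm ≪≫
      (Scheme.Modules.pullbackComp e.inv (PicF.XTmap f (c.π.app i₀))).app _ ≪≫
      (Scheme.Modules.pullbackCongr (Iso.eq_inv_comp _ |>.2
        (isPullback_XTmap f (c.π.app i₀)).isoPullback_hom_fst).symm).app _
  obtain ⟨φ, hφ⟩ := @RichLib.ModFlat.exists_isFlatOver_stage _ _ _ _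
    (ofStage (D ⋙ Over.forget S) ((Over.forget S).mapCone c) hc i₀) _ (PicF.XTproj f (D.obj i₀)) ‹_›
    (FGA.ET f F (D.obj i₀)) ‹_› (RichLib.ModFlat.isFP_pullback _ hF) ‹_› hfwd
  have hφ' : FlatMod.IsFlatOver (pullback.snd (PicF.XTproj f (D.obj i₀)) (D.map φ.hom).left)
      ((Scheme.Modules.pullback (pullback.fst (PicF.XTproj f (D.obj i₀)) (D.map φ.hom).left)).obj
        (FGA.ET f F (D.obj i₀))) := hφ
  refine ⟨φ.left, fun x => ?_⟩
  let e := (isPullback_XTmap f (D.map φ.hom)).isoPullback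
  have sq : IsPullback e.hom (PicF.XTproj f (D.obj φ.left))
      (pullback.snd (PicF.XTproj f (D.obj i₀)) (D.map φ.hom).left) (𝟙 _) := IsPullback.of_horiz_isIso ⟨by
    rw [Category.comp_id]
    exact (isPullback_XTmap f (D.map φ.hom)).isoPullback_hom_snd⟩
  haveI : Coh.IsQCoh ((Scheme.Modules.pullback (pullback.fst (PicF.XTproj f (D.obj i₀)) (D.map φ.hom).left)).obj
      (FGA.ET f F (D.obj i₀))) := KFlatLib.isQCoh_pullback _ _
  refine (RichLib.ModFlat.isFlatOverAt_iso _ ?_ x).1 (RGFlatLib.isFlatOver_pullback_of_isPullback sq _ hφ' x)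
  exact (Scheme.Modules.pullbackComp e.hom _).app _ ≪≫
    (Scheme.Modules.pullbackCongr (isPullback_XTmap f (D.map φ.hom)).isoPullback_hom_fst).app _ ≪≫
    FGA.ETiso f F (D.map φ.hom)

end FlatFunLimLib
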