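import Groth.Agent.FlatFunLimLib.FreeGen
import Groth.Agent.FlatFunShLib.Basic
import Groth.Agent.FlatInjLib.AssFibre
import Groth.Agent.S9407
import Groth.Agent.AssPointLib.Push

/-!
# Freeness at the generic points of the fibres is fpqc local
-/

set_option autoImplicit false
set_option backward.isDefEq.respectTransparency false
set_option linter.style.haveILetI false

universe u

open CategoryTheory CategoryTheory.Limits AlgebraicGeometry TopologicalSpace Opposite TensorProduct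

noncomputable section

namespace FlatFunLimLib

open RankLocusLib

section alg

variable {A B : Type u} [CommRing A] [CommRing B] [Algebra A B]

/-- A function on a smooth algebra killed at every prime minimal in its fibre is zero. -/
theorem eq_zero_of_minimal [Algebra.Smooth A B] (b : B)
    (h : ∀ q : Ideal B, ∀ [q.IsPrime], (∀ q'' : Ideal B, q''.IsPrime →
      q''.comap (algebraMap A B) = q.comap (algebraMap A B) → q'' ≤ q → q ≤ q'') →
      ∃ s : B, s ∉ q ∧ s * b = 0) : b = 0 := by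
  classical
  by_contra hb
  have hz : b ⊗ₜ[A] (1 : A) ≠ 0 := fun e => hb (by
    have := congrArg (TensorProduct.rid A B) e
    rwa [TensorProduct.rid_tmul, one_smul, map_zero] at this)
  obtain ⟨p, q, _, _, hlo, hP, hann⟩ := FlatInjLib.exists_relAss_annihilator_le (S := B) A (b ⊗ₜ[A] (1 : A)) hz
  haveI := hlo
  suffices hmn : ∀ q'' : Ideal B, q''.IsPrime →
      q''.comap (algebraMap A B) = q.comap (algebraMap A B) → q'' ≤ q → q ≤ q'' by
    obtain ⟨s, hs, hsb⟩ := h q hmn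
    refine hs (hann s ?_)
    rw [TensorProduct.smul_tmul', smul_eq_mul, hsb, TensorProduct.zero_tmul]
  intro q'' hq'' hcomap hle a ha
  haveI := hq''
  haveI : IsReduced (p.Fiber B) := Groth.Agent.S9407.result p.ResidueField (p.Fiber B)
  haveI : IsNoetherianRing (p.Fiber B) := Algebra.FiniteType.isNoetherianRing p.ResidueField _
  haveI := IsAssociatedPrime.isPrime hP
  obtain ⟨-, x, hx⟩ := isAssociatedPrime_iff.1 hP
  let P := FlatCA.fiberIdeal p q
  have hmin : P ∈ (⊥ : Ideal (p.Fiber B)).minimalPrimes := by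
    letI : Algebra B (p.Fiber B) := Algebra.TensorProduct.rightAlgebra
    let e : FlatCA.fiberMod p B B ≃ₗ[p.Fiber B] p.Fiber B :=
      TensorProduct.AlgebraTensorModule.rid B (p.Fiber B) (p.Fiber B)
    have hx0 : e x ≠ 0 := fun h0 => (IsAssociatedPrime.isPrime hP).ne_top (by
      rw [hx, (LinearEquiv.map_eq_zero_iff e).1 h0]
      exact (Ideal.eq_top_iff_one _).2 (Submodule.mem_colon_singleton.2 (smul_zero _)))
    obtain ⟨P', hP', hxP'⟩ : ∃ P' ∈ (⊥ : Ideal (p.Fiber B)).minimalPrimes, e x ∉ P' := by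
      by_contra hno
      push Not at hno
      refine hx0 ?_
      have h1 : e x ∈ sInf (⊥ : Ideal (p.Fiber B)).minimalPrimes := Ideal.mem_sInf.2 fun {I} hI => hno I hI
      rw [Ideal.sInf_minimalPrimes] at h1
      exact (IsReduced.eq_zero _ h1)
    haveI := hP'.1.1
    have hPP' : P ≤ P' := fun r hr => by
      have h0 : r • x = 0 := by
        have h1 : r ∈ (⊥ : Submodule (p.Fiber B) (FlatCA.fiberMod p B B)).colon {x} := hx ▸ hr
        rwa [Submodule.mem_colon_singleton, Submodule.mem_bot] at h1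
      refine ((Ideal.IsPrime.mem_or_mem inferInstance) (?_ : r * e x ∈ P')).resolve_right hxP'
      rw [← smul_eq_mul, ← map_smul, h0, map_zero]
      exact zero_mem _
    rwa [le_antisymm hPP' (hP'.2 ⟨inferInstanceAs P.IsPrime, bot_le⟩ hPP')]
  have haP : FibAssLib.incl B p a ∈ P := Ideal.mem_map_of_mem _ ha
  obtain ⟨y, hy, hyn⟩ : ∃ y ∉ P, FibAssLib.incl B p a * y = 0 := by
    by_contra hno
    push Not at hno
    let L := Localization.AtPrime P
    haveI : Ring.KrullDimLE 0 L := Ring.KrullDimLE.mk₀ fun J hJ => by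
      have hJP : (J.comap (algebraMap (p.Fiber B) L)) ≤ P :=
        ((IsLocalization.AtPrime.orderIsoOfPrime L P) ⟨J, hJ⟩).2.2
      have : J.comap (algebraMap (p.Fiber B) L) = P :=
        le_antisymm hJP (hmin.2 ⟨Ideal.IsPrime.comap _, bot_le⟩ hJP)
      have hJ' : J = IsLocalRing.maximalIdeal L := by
        rw [← IsLocalization.map_comap P.primeCompl L J]
        show Ideal.map _ (J.comap (algebraMap (p.Fiber B) L)) = _
        rw [this, Localization.AtPrime.map_eq_maximalIdeal]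
      exact hJ' ▸ IsLocalRing.maximalIdeal.isMaximal L
    have hm : algebraMap (p.Fiber B) L (FibAssLib.incl B p a) ∈ IsLocalRing.maximalIdeal L := by
      rw [← Localization.AtPrime.map_eq_maximalIdeal]
      exact Ideal.mem_map_of_mem _ haP
    rw [← Ring.KrullDimLE.nilradical_eq_maximalIdeal] at hm
    haveI : IsReduced L := isReduced_localizationPreserves P.primeCompl L inferInstance
    rw [nilradical_eq_zero, Submodule.zero_eq_bot, Ideal.mem_bot] at hm
    obtain ⟨⟨y, hy⟩, e⟩ := (IsLocalization.map_eq_zero_iff P.primeCompl L _).1 hm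
    exact hno y hy (by rw [mul_comm]; exact e)
  obtain ⟨t, ht, c, hc⟩ := FibAssLib.exists_incl_eq p y
  have hcq : c ∉ q := fun hcq => hy (by
    have h1 : FibAssLib.incl B p (algebraMap A B t) * y ∈ P := hc ▸ Ideal.mem_map_of_mem _ hcq
    exact (Ideal.unit_mul_mem_iff_mem _ (FibAssLib.isUnit_incl p ht)).1 h1)
  have h0 : FibAssLib.incl B p (c * a) = 0 := by
    rw [map_mul, ← hc, mul_assoc, mul_comm y, hyn, mul_zero]
  have h3 : FlatCA.toFiberMod p B B (c * a) = 0 := by
    rw [show c * a = (c * a) • (1 : B) by rw [smul_eq_mul, mul_one], map_smul, FibAssLib.smul_eq, h0, zero_smul]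
  obtain ⟨r, hr, hrz⟩ := FibAssLib.exists_smul_eq_zero_of_β p (z := Submodule.Quotient.mk (c * a)) h3
  rw [← Submodule.Quotient.mk_smul, Submodule.Quotient.mk_eq_zero, smul_eq_mul, Ideal.mul_top,
    Algebra.smul_def] at hrz
  have hpq : p = q.comap (algebraMap A B) := hlo.over
  have hpB : p.map (algebraMap A B) ≤ q'' := Ideal.map_le_iff_le_comap.2 (hpq.trans hcomap.symm).le
  rcases hq''.mem_or_mem (hpB hrz) with h1 | h1
  · exact absurd (show r ∈ p by rw [hpq, ← hcomap]; exact h1) hr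
  · exact (hq''.mem_or_mem h1).resolve_left fun h2 => hcq (hle h2)

end alg

section scheme

variable {X S : Scheme.{u}} (q : X ⟶ S) [Smooth q]

/-- A function vanishing at the generic points of the fibres is zero. -/
theorem eq_zero_of_germ_generic (hgen : ∀ s, ∀ x, q x = s → ∃ η, FlatFun.IsGenericPtOfFibre q η ∧ q η = s)
    {V : X.Opens} (a : Γ(X, V))
    (ha : ∀ η (hη : η ∈ V), FlatFun.IsGenericPtOfFibre q η → X.presheaf.germ V η hη a = 0) : a = 0 := by
  refine TopCat.Presheaf.section_ext X.sheaf V a 0 fun y hy => Eq.trans ?_ (map_zero _).symm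
  obtain ⟨W, hW, hyW, -⟩ := exists_isAffineOpen_mem_and_subset (x := q y) (U := ⊤) trivial
  obtain ⟨U, hU, hyU, hUV⟩ := exists_isAffineOpen_mem_and_subset (x := y) (U := V ⊓ q ⁻¹ᵁ W) ⟨hy, hyW⟩
  have hUW : U ≤ q ⁻¹ᵁ W := le_trans hUV inf_le_right
  have hUV' : U ≤ V := le_trans hUV inf_le_left
  let b : Γ(X, U) := X.presheaf.map (homOfLE hUV').op a
  suffices hb : b = 0 by
    have h1 := TopCat.Presheaf.germ_res_apply X.presheaf (homOfLE hUV') y hyU a
    show X.presheaf.germ V y hy a = 0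
    rw [← h1, show X.presheaf.map (homOfLE hUV').op a = 0 from hb, map_zero]
  letI : Algebra Γ(S, W) Γ(X, U) := (q.appLE W U hUW).hom.toAlgebra
  haveI : Algebra.Smooth Γ(S, W) Γ(X, U) :=
    RingHom.smooth_algebraMap.1 (HasRingHomProperty.appLE (P := @Smooth) q inferInstance ⟨W, hW⟩ ⟨U, hU⟩ hUW)
  refine eq_zero_of_minimal (A := Γ(S, W)) b fun Q _ hQ => ?_
  let ξ := hU.fromSpec ⟨Q, inferInstance⟩
  have hξU : ξ ∈ U := AssPointLib.fromSpec_mem hU _
  have hξQ : (hU.primeIdealOf ⟨ξ, hξU⟩).asIdeal = Q :=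
    congrArg PrimeSpectrum.asIdeal (AssPointLib.primeIdealOf_fromSpec hU ⟨Q, inferInstance⟩)
  obtain ⟨η, hη, hηs⟩ := hgen (q ξ) ξ rfl
  have hsp : η ⤳ ξ := hη ξ hηs.symm
  have hηU : η ∈ U := hsp.mem_open U.isOpen hξU
  have hle := (UOpenLib.primeIdealOf_le_iff hU hηU hξU).2 hsp
  have e1 : (hU.primeIdealOf ⟨η, hηU⟩).asIdeal.comap (algebraMap Γ(S, W) Γ(X, U)) =
      Q.comap (algebraMap Γ(S, W) Γ(X, U)) := by
    have h1 := congrArg PrimeSpectrum.asIdeal (IsAffineOpen.comap_primeIdealOf_appLE W hW U hU hUW hηU)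
    have h2 := congrArg PrimeSpectrum.asIdeal (IsAffineOpen.comap_primeIdealOf_appLE W hW U hU hUW hξU)
    refine (h1.trans ?_).trans (h2.symm.trans (congrArg (Ideal.comap _) hξQ))
    simp only [hηs]
  have hQη : (hU.primeIdealOf ⟨η, hηU⟩).asIdeal = Q := by
    have hle' : (hU.primeIdealOf ⟨η, hηU⟩).asIdeal ≤ Q := hξQ ▸ hle
    exact le_antisymm hle' (hQ _ inferInstance e1 hle')
  letI := X.presheaf.algebra_section_stalk (⟨η, hηU⟩ : U)
  haveI := hU.isLocalization_stalk ⟨η, hηU⟩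
  have h0 : algebraMap Γ(X, U) (X.presheaf.stalk η) b = 0 :=
    (TopCat.Presheaf.germ_res_apply X.presheaf (homOfLE hUV') η hηU a).trans (ha η (hUV' hηU) hη)
  obtain ⟨⟨s, hs⟩, hsb⟩ := (IsLocalization.map_eq_zero_iff (hU.primeIdealOf ⟨η, hηU⟩).asIdeal.primeCompl
    (X.presheaf.stalk η) b).1 h0
  exact ⟨s, fun h => hs (hQη ▸ h), hsb⟩

end scheme

section main

variable {X S : Scheme.{u}} (f : X ⟶ S) [Smooth f] [GeometricallyIrreducible f] (F : X.Modules) (p : ℕ)

theorem exists_generic (T : Over S) (t : T.left) : ∃ η, FlatFun.IsGenericPtOfFibre (PicF.XTproj f T) η ∧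
    PicF.XTproj f T η = t := by
  let q := PicF.XTproj f T
  haveI : GeometricallyIrreducible q := inferInstanceAs (GeometricallyIrreducible (pullback.snd f T.hom))
  haveI : IrreducibleSpace (q.fiber t) := inferInstance
  have hq : q (q.fiberι t (genericPoint (q.fiber t))) = t := by
    have h1 : q.fiberι t (genericPoint (q.fiber t)) ∈ Set.range (q.fiberι t) := ⟨_, rfl⟩
    rw [q.range_fiberι] at h1
    exact h1
  refine ⟨_, fun x' hx' => ?_, hq⟩
  obtain ⟨y, rfl⟩ : x' ∈ Set.range (q.fiberι t) := by rw [q.range_fiberι]; exact hx'.trans hq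
  exact (genericPoint_specializes y).map (q.fiberι t).continuous

theorem freeAtGenericPts_stable {T T₀ : Over S} (g : T ⟶ T₀)
    (h : FlatFun.FreeAtGenericPts (PicF.XTproj f T₀) (FGA.ET f F T₀) p) :
    FlatFun.FreeAtGenericPts (PicF.XTproj f T) (FGA.ET f F T) p := by
  refine (freeAtGenericPts_iff f p T _).2 fun t => ?_
  obtain ⟨x₀, hx₀, hf⟩ := (freeAtGenericPts_iff f p T₀ _).1 h (g.left t)
  obtain ⟨x, rfl, hxt⟩ := exists_point_of_isPullback (FlatFunShLib.isPullback_XTmap f g) x₀ t hx₀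
  exact ⟨x, hxt, isFreeOfRankNear_pullback _ _ (FGA.ETiso f F g) p x hf⟩

/-- Freeness at the generic points descends along flat covers. -/
theorem freeAtGenericPts_of_cover [Coh.IsQCoh F] (hF : CohB1.IsFT F) (T : Over S)
    (hloc : ∀ t : T.left, ∃ (T' : Over S) (g : T' ⟶ T), Flat g.left ∧ t ∈ Set.range g.left ∧
      FlatFun.FreeAtGenericPts (PicF.XTproj f T') (FGA.ET f F T') p) :
    FlatFun.FreeAtGenericPts (PicF.XTproj f T) (FGA.ET f F T) p := by
  let q := PicF.XTproj f T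
  haveI : Smooth q := inferInstanceAs (Smooth (pullback.snd f T.hom))
  haveI : Coh.IsQCoh (FGA.ET f F T) := KFlatLib.isQCoh_pullback _ F
  have hFT : CohB1.IsFT (FGA.ET f F T) := ConsLib.isFT_pullback _ F hF
  have key : ∀ η, FlatFun.IsGenericPtOfFibre q η → ∃ (T' : Over S) (g : T' ⟶ T) (η' : PicF.XT f T')
      (O : (PicF.XT f T').Opens), Flat g.left ∧ PicF.XTmap f g η' = η ∧ η' ∈ O ∧
        FreeAlong p (FGA.ET f F T) (O.ι ≫ PicF.XTmap f g) := by
    intro η hη
    obtain ⟨T', g, hg, ⟨t', ht'⟩, hP⟩ := hloc (q η)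
    obtain ⟨η', hη't, hgen', hf'⟩ := hP t'
    obtain ⟨w, hw, hwt⟩ := exists_point_of_isPullback (FlatFunShLib.isPullback_XTmap f g) η t' ht'.symm
    have h1 : PicF.XTmap f g η' ⤳ η := hw ▸ (hgen' w (hwt.trans hη't.symm)).map (PicF.XTmap f g).continuous
    have h2 : q (PicF.XTmap f g η') = q η := by
      show (PicF.XTproj f T) (PicF.XTmap f g η') = _
      rw [← Scheme.Hom.comp_apply, (FlatFunShLib.isPullback_XTmap f g).w, Scheme.Hom.comp_apply]
      exact (congrArg g.left hη't).trans ht'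
    obtain ⟨O, hO, hfree⟩ := (isFreeOfRankNear_iff _ p η').1 hf'
    obtain ⟨e⟩ := hfree
    refine ⟨T', g, η', O, hg, (Specializes.antisymm h1 (hη _ h2)).eq, hO, (freeAlong_pullback_iff _ _).1
      ⟨(Scheme.Modules.pullback O.ι).mapIso (FGA.ETiso f F g) ≪≫ e⟩⟩
  intro t
  obtain ⟨η, hη, hηt⟩ := exists_generic f T t
  obtain ⟨T', g, η', O, hg, hgη, hO, hfree⟩ := key η hη
  obtain ⟨W, hW, hηW, -⟩ := exists_isAffineOpen_mem_and_subset (x := η) (U := ⊤) trivial
  obtain ⟨U, hU, hη'U, hUO⟩ := exists_isAffineOpen_mem_and_subset (x := η')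
    (U := O ⊓ PicF.XTmap f g ⁻¹ᵁ W) ⟨hO, by show PicF.XTmap f g η' ∈ W; rw [hgη]; exact hηW⟩
  obtain ⟨V, hηV, hV, m, hm⟩ := exists_gen_of_freeAlong (FGA.ET f F T) hW (PicF.XTmap f g) hU
    (le_trans hUO inf_le_right) hFT (freeAlong_of_le hfree (le_trans hUO inf_le_left)) hη'U
  rw [hgη] at hηV
  refine ⟨η, hηt, hη, (isFreeOfRankNear_iff _ p η).2 ⟨V, hηV, ?_⟩⟩
  have h1 := (freeAlong_iff_relIdeal_le (FGA.ET f F T) hV (𝟙 _) hV (le_refl V) hm).2 fun a ha => by
    suffices a = 0 by rw [this]; exact zero_mem _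
    refine eq_zero_of_germ_generic q (fun s _ _ => exists_generic f T s) a fun η₁ hη₁ hgen₁ => ?_
    obtain ⟨T₁, g₁, η₁', O₁, hg₁, hgη₁, hO₁, hfree₁⟩ := key η₁ hgen₁
    haveI := hg₁
    haveI := FlatFunShLib.flat_XTmap f g₁
    obtain ⟨U₁, hU₁, hη₁U, hU₁O⟩ := exists_isAffineOpen_mem_and_subset (x := η₁')
      (U := O₁ ⊓ PicF.XTmap f g₁ ⁻¹ᵁ V) ⟨hO₁, by show PicF.XTmap f g₁ η₁' ∈ V; rw [hgη₁]; exact hη₁⟩
    have hle₁ : U₁ ≤ PicF.XTmap f g₁ ⁻¹ᵁ V := le_trans hU₁O inf_le_right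
    have hker := (freeAlong_iff_relIdeal_le (FGA.ET f F T) hV (PicF.XTmap f g₁) hU₁ hle₁ hm).1
      (freeAlong_of_le hfree₁ (le_trans hU₁O inf_le_left)) ha
    subst hgη₁
    have h2 : (PicF.XTmap f g₁).stalkMap η₁'
        ((PicF.XT f T).presheaf.germ V (PicF.XTmap f g₁ η₁') hη₁ a) = 0 := by
      rw [← RichLib.LimStalk.germ_appLE (PicF.XTmap f g₁) hle₁ hη₁U, RingHom.mem_ker.1 hker, map_zero]
    letI := ((PicF.XTmap f g₁).stalkMap η₁').hom.toAlgebra
    haveI : Module.Flat ((PicF.XT f T).presheaf.stalk (PicF.XTmap f g₁ η₁'))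
        ((PicF.XT f T₁).presheaf.stalk η₁') := Flat.stalkMap (PicF.XTmap f g₁) η₁'
    haveI : IsLocalHom (algebraMap ((PicF.XT f T).presheaf.stalk (PicF.XTmap f g₁ η₁'))
        ((PicF.XT f T₁).presheaf.stalk η₁')) := inferInstanceAs (IsLocalHom ((PicF.XTmap f g₁).stalkMap η₁').hom)
    haveI : Module.FaithfullyFlat ((PicF.XT f T).presheaf.stalk (PicF.XTmap f g₁ η₁'))
        ((PicF.XT f T₁).presheaf.stalk η₁') := Module.FaithfullyFlat.of_flat_of_isLocalHom
    exact FaithfulSMul.algebraMap_injective _ _ (h2.trans (map_zero _).symm)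
  rwa [Category.comp_id] at h1

theorem isSheaf_freeAtGenericPts [Coh.IsQCoh F] (hF : CohB1.IsFT F) :
    Presheaf.IsSheaf (QuotSh.J Scheme.fpqcPrecoverage S)
      (FlatFun.genPSp S (fun T => FlatFun.FreeAtGenericPts (PicF.XTproj f T) (FGA.ET f F T) p)) :=
  FlatFunShLib.isSheaf_genPSp _ (fun _ _ g h => freeAtGenericPts_stable f F p g h)
    (freeAtGenericPts_of_cover f F p hF)

end main

end FlatFunLimLib
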