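import Groth.Agent.FlatFunLimLib.Main
import Groth.Agent.RankLocusLib.Locus
import Groth.Agent.FittLib.Sheaf
import Groth.Prelude.Def_FlatFun

/-!
# Limit preservation of freeness at the generic points of the fibres
-/

set_option autoImplicit false
set_option backward.isDefEq.respectTransparency false

universe u

open CategoryTheory CategoryTheory.Limits AlgebraicGeometry TopologicalSpace Opposite

noncomputable section

namespace FlatFunLimLib

open RichLib.LimBC RichLib.LimTop RichLib.LimStalk RankLocusLib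

theorem isFreeOfRankNear_iff {X : Scheme.{u}} (G : X.Modules) (p : ℕ) (x : X) :
    FlatFun.IsFreeOfRankNear G p x ↔ ∃ U : X.Opens, x ∈ U ∧ FreeAlong p G U.ι :=
  exists_congr fun U => and_congr_right fun _ => (freeAlong_restrict_iff G U).symm

theorem isFreeOfRankNear_pullback {X Y : Scheme.{u}} (g : Y ⟶ X) (G : X.Modules) {G' : Y.Modules}
    (e : (Scheme.Modules.pullback g).obj G ≅ G') (p : ℕ) (y : Y) (h : FlatFun.IsFreeOfRankNear G p (g y)) :
    FlatFun.IsFreeOfRankNear G' p y := by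
  obtain ⟨U, hU, hfree⟩ := (isFreeOfRankNear_iff G p _).1 h
  have h1 : FreeAlong p G ((g ⁻¹ᵁ U).ι ≫ g) := by
    rw [← morphismRestrict_ι]
    exact freeAlong_comp hfree _
  obtain ⟨e'⟩ := (freeAlong_pullback_iff g (g ⁻¹ᵁ U).ι).2 h1
  exact (isFreeOfRankNear_iff G' p y).2 ⟨g ⁻¹ᵁ U, hU, ⟨(Scheme.Modules.pullback _).mapIso e.symm ≪≫ e'⟩⟩

theorem isFreeOfRankNear_of_specializes {X : Scheme.{u}} {G : X.Modules} {p : ℕ} {x y : X} (h : x ⤳ y)
    (hy : FlatFun.IsFreeOfRankNear G p y) : FlatFun.IsFreeOfRankNear G p x := by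
  obtain ⟨U, hU, e⟩ := hy
  exact ⟨U, h.mem_open U.isOpen hU, e⟩

theorem isOpen_setOf_isFreeOfRankNear {X : Scheme.{u}} (G : X.Modules) (p : ℕ) :
    IsOpen {x | FlatFun.IsFreeOfRankNear G p x} :=
  isOpen_iff_forall_mem_open.2 fun _ ⟨U, hU, e⟩ => ⟨U, fun _ hy => ⟨U, hy, e⟩, U.isOpen, hU⟩

theorem exists_point_of_isPullback {P X Y T : Scheme.{u}} {m : P ⟶ X} {r : P ⟶ Y} {q : X ⟶ T} {h : Y ⟶ T}
    (sq : IsPullback m r q h) (x : X) (y : Y) (e : q x = h y) : ∃ z, m z = x ∧ r z = y := by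
  obtain ⟨t, h1, h2⟩ := Scheme.Pullback.exists_preimage_pullback x y e
  refine ⟨sq.isoPullback.inv t, ?_, ?_⟩
  · rw [← Scheme.Hom.comp_apply, sq.isoPullback_inv_fst]; exact h1
  · rw [← Scheme.Hom.comp_apply, sq.isoPullback_inv_snd]; exact h2

theorem fg_relIdeal {A M : Type u} [CommRing A] [AddCommGroup M] [Module A M] [Module.FinitePresentation A M]
    {r : ℕ} {m : Fin r → M} (hm : Submodule.span A (Set.range m) = ⊤) : (relIdeal (A := A) m).FG := by
  have hK : (LinearMap.ker (Fintype.linearCombination A m)).FG :=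
    Module.FinitePresentation.fg_ker _ (by rw [← LinearMap.range_eq_top, Fintype.range_linearCombination, hm])
  have e : relIdeal m = ⨆ i : Fin r, (LinearMap.ker (Fintype.linearCombination A m)).map (LinearMap.proj i) := by
    refine le_antisymm (Ideal.span_le.2 ?_) (iSup_le fun i => ?_)
    · rintro _ ⟨v, hv, i, rfl⟩
      exact Submodule.mem_iSup_of_mem i ⟨v, hv, rfl⟩
    · rintro _ ⟨v, hv, rfl⟩
      exact mem_relIdeal m hv i
  rw [e]
  exact Submodule.fg_iSup _ fun i => hK.map _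

section stages

variable {I : Type u} [SmallCategory I] [IsCofiltered I] {W : Scheme.{u}} (A : Sys I W)

/-- A function vanishing at a point of the limit vanishes at its image in a stage. -/
theorem exists_stage_rho {U : W.Opens} (x : A.c.pt) (hxU : A.s x ∈ U) (a : Γ(W, U))
    (ha : rho A.s x hxU a = 0) :
    ∃ i, ∀ (j : I) (_ : j ⟶ i) (hj : A.t j (A.c.π.app j x) ∈ U), rho (A.t j) _ hj a = 0 := by
  haveI : ∀ (a b : I) (f : a ⟶ b), IsAffineHom (A.D.map f) := fun a b f => A.affine_map f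
  have hmem : ∀ i, A.t i (A.c.π.app i x) ∈ U := fun i => by
    rw [← Scheme.Hom.comp_apply, A.hs]; exact hxU
  have rho_eq : ∀ {Z : Scheme.{u}} (h : Z ⟶ W) (z : Z) (hz : h z ∈ U) (r : Γ(W, U)),
      rho h z hz r = Z.presheaf.germ (h ⁻¹ᵁ U) z hz (h.appLE U (h ⁻¹ᵁ U) le_rfl r) := by
    intro Z h z hz r
    exact (germ_appLE h le_rfl hz r).symm
  have hT : ∀ {i j : I} (φ : j ⟶ i), trans A.D A.c φ x (rho (A.t i) _ (hmem i) a) = rho (A.t j) _ (hmem j) a := by
    intro i j φ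
    have hle : A.t j ⁻¹ᵁ U ≤ A.D.map φ ⁻¹ᵁ (A.t i ⁻¹ᵁ U) := by
      rw [← Scheme.Hom.comp_preimage, A.w φ]
    rw [rho_eq, rho_eq, trans_germ A.D A.c φ x (hmem i) _ hle (hmem j)]
    refine congrArg _ ?_
    show ((A.t i).appLE U _ _ ≫ (A.D.map φ).appLE _ _ _) a = _
    simp only [Scheme.Hom.appLE_comp_appLE, A.w φ]
  obtain ⟨i⟩ := IsCofiltered.nonempty (C := I)
  have hσ : (A.c.π.app i).stalkMap x (rho (A.t i) _ (hmem i) a) = 0 := by
    refine Eq.trans ?_ ha
    have hle : A.s ⁻¹ᵁ U ≤ A.c.π.app i ⁻¹ᵁ (A.t i ⁻¹ᵁ U) := by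
      rw [← Scheme.Hom.comp_preimage, A.hs]
    rw [rho_eq, rho_eq, ← germ_appLE (A.c.π.app i) hle hxU]
    refine congrArg _ ?_
    show ((A.t i).appLE U _ _ ≫ (A.c.π.app i).appLE _ _ _) a = _
    simp only [Scheme.Hom.appLE_comp_appLE, A.hs]
    rfl
  obtain ⟨j, φ, hj⟩ := exists_trans_eq_zero A.D A.c A.hc x _ hσ
  refine ⟨j, fun k ψ hk => ?_⟩
  rw [← hT ψ, ← hT φ, hj, map_zero]

/-- Freeness near a point of the limit holds near its image in a stage. -/
theorem exists_stage_isFreeOfRankNear (G : W.Modules) [Coh.IsQCoh G] (hG : CohB1.IsFP G) (p : ℕ) (x : A.c.pt)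
    (h : FlatFun.IsFreeOfRankNear ((Scheme.Modules.pullback A.s).obj G) p x) :
    ∃ i, FlatFun.IsFreeOfRankNear ((Scheme.Modules.pullback (A.t i)).obj G) p (A.c.π.app i x) := by
  classical
  obtain ⟨O, hxO, hO⟩ := (isFreeOfRankNear_iff _ p x).1 h
  rw [freeAlong_pullback_iff] at hO
  obtain ⟨W₀, hW₀, hxW₀, -⟩ := exists_isAffineOpen_mem_and_subset (x := A.s x) (U := ⊤) trivial
  obtain ⟨U, hU, hxU, hUO⟩ := exists_isAffineOpen_mem_and_subset (x := x) (U := O ⊓ A.s ⁻¹ᵁ W₀) ⟨hxO, hxW₀⟩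
  obtain ⟨V, hxV, hV, m, hm⟩ := exists_gen_of_freeAlong G hW₀ A.s hU (le_trans hUO inf_le_right)
    (isFT_of_isFP' hG) (freeAlong_of_le hO (le_trans hUO inf_le_left)) hxU
  obtain ⟨U', hU', hxU', hU'U⟩ := exists_isAffineOpen_mem_and_subset (x := x) (U := U ⊓ A.s ⁻¹ᵁ V) ⟨hxU, hxV⟩
  have hle' : U' ≤ A.s ⁻¹ᵁ V := le_trans hU'U inf_le_right
  have hrel := (freeAlong_iff_relIdeal_le G hV A.s hU' hle' hm).1
    (freeAlong_of_le hO ((le_trans hU'U inf_le_left).trans (le_trans hUO inf_le_left)))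
  haveI := FittLib.finitePresentation_affine G hG hV
  obtain ⟨l, hl⟩ := fg_relIdeal hm
  have hz : ∀ a ∈ l, rho A.s x hxV a = 0 := fun a ha => by
    have h1 : (A.s.appLE V U' hle').hom a = 0 := hrel (hl ▸ Ideal.subset_span ha)
    show A.s.stalkMap x (W.presheaf.germ V _ hxV a) = 0
    rw [← germ_appLE A.s hle' hxU' a, h1, map_zero]
  haveI : Nonempty I := IsCofiltered.nonempty
  choose! i hi using fun a ha => exists_stage_rho A x hxV a (hz a ha)
  obtain ⟨j, hj⟩ := IsCofiltered.inf_objs_exists (l.image i)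
  have hjV : A.t j (A.c.π.app j x) ∈ V := by
    rw [← Scheme.Hom.comp_apply, A.hs]; exact hxV
  have hex : ∀ a ∈ l, ∃ N : (A.D.obj j).Opens, A.c.π.app j x ∈ N ∧
      ∀ (U'' : (A.D.obj j).Opens) (hle : U'' ≤ A.t j ⁻¹ᵁ V), U'' ≤ N → (A.t j).appLE V U'' hle a = 0 := by
    intro a ha
    have h1 := hi a ha j (hj (Finset.mem_image_of_mem i ha)).some hjV
    change (A.t j).stalkMap (A.c.π.app j x) (W.presheaf.germ V _ hjV a) = 0 at h1
    rw [Scheme.Hom.germ_stalkMap_apply] at h1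
    obtain ⟨N, hN, i₁, i₂, e⟩ := TopCat.Presheaf.germ_eq (A.D.obj j).presheaf _ (U := A.t j ⁻¹ᵁ V) (V := A.t j ⁻¹ᵁ V) hjV hjV _ 0
      (h1.trans (map_zero _).symm)
    rw [map_zero] at e
    refine ⟨N, hN, fun U'' hle hN'' => ?_⟩
    have e' := congrArg ((A.D.obj j).presheaf.map (homOfLE hN'').op) e
    rw [map_zero, ← CommRingCat.comp_apply, ← Functor.map_comp] at e'
    exact e'
  choose! N hxN hN using hex
  obtain ⟨U'', hU'', hxU'', hle''⟩ := exists_isAffineOpen_mem_and_subset (x := A.c.π.app j x)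
    (U := A.t j ⁻¹ᵁ V ⊓ l.inf N) ⟨hjV, by
      show A.c.π.app j x ∈ ((l.inf N : (A.D.obj j).Opens) : Set (A.D.obj j))
      rw [Opens.coe_finset_inf, Finset.inf_set_eq_iInter]
      exact Set.mem_iInter₂.2 fun a ha => hxN a ha⟩
  have hleV : U'' ≤ A.t j ⁻¹ᵁ V := le_trans hle'' inf_le_left
  refine ⟨j, (isFreeOfRankNear_iff _ p _).2 ⟨U'', hxU'', (freeAlong_pullback_iff _ _).2
    ((freeAlong_iff_relIdeal_le G hV (A.t j) hU'' hleV hm).2 ?_)⟩⟩
  rw [← hl, Ideal.span_le]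
  exact fun a ha => hN a ha U'' hleV (le_trans (le_trans hle'' inf_le_right) (Finset.inf_le (f := N) ha))

end stages

section main

variable {X S : Scheme.{u}} (f : X ⟶ S) [Smooth f] [GeometricallyIrreducible f] (F : X.Modules) (p : ℕ)

theorem freeAtGenericPts_iff (T : Over S) (G : (PicF.XT f T).Modules) :
    FlatFun.FreeAtGenericPts (PicF.XTproj f T) G p ↔
      ∀ t : T.left, ∃ x, PicF.XTproj f T x = t ∧ FlatFun.IsFreeOfRankNear G p x := by
  refine ⟨fun h t => ?_, fun h t => ?_⟩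
  · obtain ⟨x, hx, -, hf⟩ := h t
    exact ⟨x, hx, hf⟩
  · obtain ⟨x, hx, hf⟩ := h t
    let q := PicF.XTproj f T
    haveI : GeometricallyIrreducible q := inferInstanceAs (GeometricallyIrreducible (pullback.snd f T.hom))
    haveI : IrreducibleSpace (q.fiber t) := inferInstance
    have hgen : ∀ x', q x' = t → (q.fiberι t (genericPoint (q.fiber t))) ⤳ x' := fun x' hx' => by
      obtain ⟨y, rfl⟩ : x' ∈ Set.range (q.fiberι t) := by rw [q.range_fiberι]; exact hx'
      exact (genericPoint_specializes y).map (q.fiberι t).continuous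
    have hq : q (q.fiberι t (genericPoint (q.fiber t))) = t := by
      have h1 : q.fiberι t (genericPoint (q.fiber t)) ∈ Set.range (q.fiberι t) := ⟨_, rfl⟩
      rw [q.range_fiberι] at h1
      exact h1
    exact ⟨_, hq, fun x' hx' => hgen x' (hx'.trans hq), isFreeOfRankNear_of_specializes (hgen x hx) hf⟩

theorem isLimitPreserving_freeAtGenericPts [Coh.IsQCoh F] (hF : CohB1.IsFP F) : AlgSp.IsLimitPreserving
    (FlatFun.genPSp S (fun T => FlatFun.FreeAtGenericPts (PicF.XTproj f T) (FGA.ET f F T) p)) := by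
  refine isLimitPreserving_genPSp _ (fun T T₀ g h => (freeAtGenericPts_iff f p T _).2 fun t => ?_)
    fun I _ _ D c hc hD hP => ?_
  · obtain ⟨x₀, hx₀, hf⟩ := (freeAtGenericPts_iff f p T₀ _).1 h (g.left t)
    obtain ⟨x, rfl, hxt⟩ := exists_point_of_isPullback (FlatFunShLib.isPullback_XTmap f g) x₀ t hx₀
    exact ⟨x, hxt, isFreeOfRankNear_pullback _ _ (FGA.ETiso f F g) p x hf⟩
  obtain ⟨i₀⟩ := IsCofiltered.nonempty (C := I)
  haveI := hD i₀
  haveI : ∀ (i j : I) (a : i ⟶ j), IsAffineHom ((D ⋙ Over.forget S).map a) := fun i j a => by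
    haveI := hD i
    haveI := hD j
    exact isAffineHom_of_isAffine (D.map a).left
  let q := PicF.XTproj f (D.obj i₀)
  haveI : Coh.IsQCoh (FGA.ET f F (D.obj i₀)) := KFlatLib.isQCoh_pullback _ F
  haveI : CompactSpace ↥((D ⋙ Over.forget S).obj i₀) := inferInstanceAs (CompactSpace ↥(D.obj i₀).left)
  let B := ofStage (D ⋙ Over.forget S) ((Over.forget S).mapCone c) hc i₀
  let G := FGA.ET f F (D.obj i₀)
  let O : ∀ φ : Over i₀, (B.D.obj φ).Opens := fun φ =>
    ⟨(pullback.snd q (B.t φ)) '' {x | FlatFun.IsFreeOfRankNear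
      ((Scheme.Modules.pullback (pullback.fst q (B.t φ))).obj G) p x}, by
      haveI : Smooth q := inferInstanceAs (Smooth (pullback.snd f (D.obj i₀).hom))
      haveI : Smooth (pullback.snd q (B.t φ)) := MorphismProperty.pullback_snd _ _ ‹_›
      exact (pullback.snd q (B.t φ)).isOpenMap _ (isOpen_setOf_isFreeOfRankNear _ p)⟩
  obtain ⟨φ, hφ⟩ := exists_stage_of_opens B O fun t => by
    obtain ⟨x₀, hx₀, hf⟩ := (freeAtGenericPts_iff f p c.pt _).1 hP t
    have sq := FlatFunShLib.isPullback_XTmap f (c.π.app i₀)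
    let x : ↥(pullback q (c.π.app i₀).left) := sq.isoPullback.hom x₀
    have hinv : sq.isoPullback.inv x = x₀ := by
      rw [← Scheme.Hom.comp_apply, Iso.hom_inv_id]; rfl
    have hfx := isFreeOfRankNear_pullback sq.isoPullback.inv _
      (G' := (Scheme.Modules.pullback (pullback.fst q (c.π.app i₀).left)).obj G)
      ((Scheme.Modules.pullback sq.isoPullback.inv).mapIso (FGA.ETiso f F (c.π.app i₀)).symm ≪≫
        (Scheme.Modules.pullbackComp _ (PicF.XTmap f (c.π.app i₀))).app _ ≪≫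
        (Scheme.Modules.pullbackCongr sq.isoPullback_inv_fst).app _) p x (hinv.symm ▸ hf)
    obtain ⟨i, hi⟩ := exists_stage_isFreeOfRankNear (pb B q) G (RichLib.ModFlat.isFP_pullback _ hF) p x hfx
    refine ⟨i, ⟨(pb B q).c.π.app i x, hi, ?_⟩⟩
    show pullback.snd q (B.t i) (pbπ B q i x) = B.c.π.app i t
    rw [← Scheme.Hom.comp_apply, pbπ_snd, Scheme.Hom.comp_apply]
    refine congrArg _ ?_
    show pullback.snd q (c.π.app i₀).left (sq.isoPullback.hom x₀) = t
    rw [← Scheme.Hom.comp_apply, sq.isoPullback_hom_snd]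
    exact hx₀
  refine ⟨φ.left, (freeAtGenericPts_iff f p _ _).2 fun y => ?_⟩
  obtain ⟨i, ψ, z, hz, hzy⟩ := hφ y
  obtain ⟨w, rfl, hwy⟩ := exists_point_of_isPullback (isPullback_map B q ψ) z y hzy
  have h1 := isFreeOfRankNear_pullback (pbMap B q ψ) _ ((Scheme.Modules.pullbackComp _ _).app G ≪≫
    (Scheme.Modules.pullbackCongr (pbMap_fst B q ψ)).app G) p w hz
  have sq' := FlatFunShLib.isPullback_XTmap f (D.map φ.hom)
  let x' := sq'.isoPullback.inv w
  have hx' : sq'.isoPullback.hom x' = w := by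
    show sq'.isoPullback.hom (sq'.isoPullback.inv w) = w
    rw [← Scheme.Hom.comp_apply, Iso.inv_hom_id]; rfl
  refine ⟨x', ?_, isFreeOfRankNear_pullback sq'.isoPullback.hom _ ?_ p x' (hx'.symm ▸ h1)⟩
  · show PicF.XTproj f (D.obj φ.left) (sq'.isoPullback.inv w) = y
    rw [← Scheme.Hom.comp_apply, sq'.isoPullback_inv_snd]
    exact hwy
  · exact (Scheme.Modules.pullbackComp sq'.isoPullback.hom _).app _ ≪≫
      (Scheme.Modules.pullbackCongr sq'.isoPullback_hom_fst).app _ ≪≫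
      FGA.ETiso f F (D.map φ.hom)

end main

end FlatFunLimLib
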