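import Mathlib

/-!
# Tensors vanishing in a filtered colimit of rings vanish at a stage
-/

set_option autoImplicit false

universe u

open CategoryTheory TensorProduct

namespace FlatFunLimLib

variable {R : Type u} [CommRing R] {M : Type u} [AddCommGroup M] [Module R M]
  {I : Type u} [SmallCategory I] [IsCofiltered I]
  (S : I → Type u) [∀ i, CommRing (S i)] (ρ : ∀ i, R →+* S i)
  (T : ∀ {i j : I}, (j ⟶ i) → (S i →+* S j))
  (Si : Type u) [CommRing Si] (σ : ∀ i, S i →+* Si)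

/-- `m ⊗ 1 = 0` for the algebra structure given by `φ`. -/
def Kills {A : Type u} [CommRing A] (φ : R →+* A) (m : M) : Prop :=
  letI := φ.toAlgebra
  m ⊗ₜ[R] (1 : A) = 0

theorem Kills.map {A B : Type u} [CommRing A] [CommRing B] {φ : R →+* A} {ψ : R →+* B} (τ : A →+* B)
    (hτ : τ.comp φ = ψ) {m : M} (h : Kills φ m) : Kills ψ m := by
  letI := φ.toAlgebra
  letI := ψ.toAlgebra
  let τ' : A →ₗ[R] B :=
    { toFun := τ, map_add' := map_add τ
      map_smul' := fun r a => by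
        rw [RingHom.id_apply, Algebra.smul_def, Algebra.smul_def, map_mul]
        exact congrArg (· * τ a) (RingHom.congr_fun hτ r) }
  have h2 := congrArg (τ'.lTensor M) (show m ⊗ₜ[R] (1 : A) = 0 from h)
  rw [LinearMap.lTensor_tmul, map_zero] at h2
  show m ⊗ₜ[R] (1 : B) = 0
  rw [← map_one τ]
  exact h2

variable (hT : ∀ {i j : I} (φ : j ⟶ i), (T φ).comp (ρ i) = ρ j)
  (hTT : ∀ {i j k : I} (φ : j ⟶ i) (ψ : k ⟶ j) (b : S i), T ψ (T φ b) = T (ψ ≫ φ) b)
  (hσ : ∀ {i j : I} (φ : j ⟶ i) (b : S i), σ j (T φ b) = σ i b)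
  (surj : ∀ (i₀ : I) (a : Si), ∃ (j : I) (_ : j ⟶ i₀) (b : S j), σ j b = a)
  (kill : ∀ (i : I) (b : S i), σ i b = 0 → ∃ (j : I) (φ : j ⟶ i), T φ b = 0)

omit [IsCofiltered I] in
include hσ surj in
theorem exists_lift_fin (i₀ : I) : ∀ (n : ℕ) (a : Fin n → Si),
    ∃ (j : I) (_ : j ⟶ i₀) (b : Fin n → S j), ∀ k, σ j (b k) = a k
  | 0, _ => ⟨i₀, 𝟙 i₀, fun k => k.elim0, fun k => k.elim0⟩
  | n + 1, a => by
    obtain ⟨j, φ, b, hb⟩ := exists_lift_fin i₀ n (fun k => a k.castSucc)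
    obtain ⟨l, ψ, c, hc⟩ := surj j (a (Fin.last n))
    refine ⟨l, ψ ≫ φ, Fin.snoc (fun k => T ψ (b k)) c, fun k => ?_⟩
    refine Fin.lastCases ?_ (fun k => ?_) k
    · rw [Fin.snoc_last]; exact hc
    · rw [Fin.snoc_castSucc, hσ]; exact hb k

omit [IsCofiltered I] in
include hσ hTT kill in
theorem exists_kill_fin : ∀ (n : ℕ) (i : I) (e : Fin n → S i), (∀ k, σ i (e k) = 0) →
    ∃ (j : I) (φ : j ⟶ i), ∀ k, T φ (e k) = 0
  | 0, i, _, _ => ⟨i, 𝟙 i, fun k => k.elim0⟩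
  | n + 1, i, e, he => by
    obtain ⟨j, φ, hφ⟩ := exists_kill_fin n i (fun k => e k.castSucc) (fun k => he _)
    obtain ⟨l, ψ, hψ⟩ := kill j (T φ (e (Fin.last n))) (by rw [hσ]; exact he _)
    refine ⟨l, ψ ≫ φ, fun k => ?_⟩
    rw [← hTT]
    refine Fin.lastCases ?_ (fun k => ?_) k
    · exact hψ
    · rw [hφ k, map_zero]

omit [IsCofiltered I] in
include hT hTT hσ surj kill in
theorem exists_stage_kills (i₀ : I) (ρi : R →+* Si) (hρ : ∀ i, (σ i).comp (ρ i) = ρi) (m : M)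
    (h : Kills ρi m) : ∃ (j : I) (_ : j ⟶ i₀), Kills (ρ j) m := by
  classical
  letI := ρi.toAlgebra
  have h' : m ⊗ₜ[R] (1 : Si) = 0 := h
  obtain ⟨Q, hle, hQ, hz⟩ := TensorProduct.eq_zero_of_fg_of_subtype_eq_zero (R := R) (M := M) (N := Si)
    (P := R ∙ m) (Submodule.fg_span_singleton m)
    (t := (⟨m, Submodule.mem_span_singleton_self m⟩ : R ∙ m) ⊗ₜ[R] (1 : Si))
    (by rw [LinearMap.rTensor_tmul]; exact h')
  haveI : Module.Finite R Q := Module.Finite.iff_fg.2 hQ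
  obtain ⟨n, g, hg⟩ := Module.Finite.exists_fin (R := R) (M := Q)
  let m' : Q := ⟨m, hle (Submodule.mem_span_singleton_self m)⟩
  obtain ⟨a, ha⟩ := (Submodule.mem_span_range_iff_exists_fun R).1 (hg.ge (Submodule.mem_top : m' ∈ ⊤))
  have hsum : ∑ i, g i ⊗ₜ[R] (a i • (1 : Si)) = 0 := by
    have h1 : (Submodule.inclusion hle).rTensor Si
        ((⟨m, Submodule.mem_span_singleton_self m⟩ : R ∙ m) ⊗ₜ[R] (1 : Si)) = m' ⊗ₜ[R] (1 : Si) :=
      LinearMap.rTensor_tmul _ _ _ _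
    rw [h1, ← ha, TensorProduct.sum_tmul] at hz
    simpa only [TensorProduct.smul_tmul] using hz
  obtain ⟨k, b, y, hay, hb⟩ := TensorProduct.vanishesTrivially_of_sum_tmul_eq_zero R hg hsum
  obtain ⟨j₁, φ₁, y₁, hy₁⟩ := exists_lift_fin S T Si σ hσ surj i₀ k y
  let e : Fin n → S j₁ := fun i => ρ j₁ (a i) - ∑ l, ρ j₁ (b i l) * y₁ l
  have he : ∀ i, σ j₁ (e i) = 0 := by
    intro i
    have hr : ∀ r, σ j₁ (ρ j₁ r) = ρi r := fun r => RingHom.congr_fun (hρ j₁) r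
    simp only [e, map_sub, map_sum, map_mul, hr, hy₁]
    have := hay i
    simp only [Algebra.smul_def, mul_one] at this
    exact sub_eq_zero.2 this
  obtain ⟨j₂, φ₂, he₂⟩ := exists_kill_fin S T Si σ hTT hσ kill n j₁ e he
  refine ⟨j₂, φ₂ ≫ φ₁, ?_⟩
  letI := (ρ j₂).toAlgebra
  show m ⊗ₜ[R] (1 : S j₂) = 0
  have hai : ∀ i, (a i • (1 : S j₂)) = ∑ l, b i l • T φ₂ (y₁ l) := by
    intro i
    have := he₂ i
    have hr : ∀ r, T φ₂ (ρ j₁ r) = algebraMap R (S j₂) r := fun r => RingHom.congr_fun (hT φ₂) r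
    simp only [e, map_sub, map_sum, map_mul, hr, sub_eq_zero] at this
    simpa only [Algebra.smul_def, mul_one] using this
  have hm : m = ∑ i, a i • (g i : M) := by
    have := congrArg Subtype.val ha
    simpa only [AddSubmonoidClass.coe_finset_sum, Submodule.coe_sum, SetLike.val_smul] using this.symm
  rw [hm, TensorProduct.sum_tmul]
  simp only [TensorProduct.smul_tmul, hai, TensorProduct.tmul_sum]
  rw [Finset.sum_comm]
  refine Finset.sum_eq_zero fun l _ => ?_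
  simp only [← TensorProduct.smul_tmul, ← TensorProduct.sum_tmul]
  have hb' : ∑ i, b i l • (g i : M) = 0 := by
    simpa only [Submodule.coe_sum, SetLike.val_smul, ZeroMemClass.coe_zero] using congrArg Subtype.val (hb l)
  rw [hb', TensorProduct.zero_tmul]

end FlatFunLimLib
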