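import Groth.Agent.FlatFunLimLib.Tensor
import Groth.Agent.RichLib.ModFlatLimit
import Groth.Agent.RichLib.LimStalk
import Groth.Agent.KFlatLib.AffinePull
import Groth.Agent.QCohLib.AffineFinite
import Groth.Agent.DevissLib.Stalk

/-!
# A map of quasi-coherent modules vanishing on an affine limit vanishes at a stage
-/

set_option autoImplicit false

universe u

open CategoryTheory CategoryTheory.Limits AlgebraicGeometry TopologicalSpace Opposite TensorProduct

noncomputable section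

namespace FlatFunLimLib

open RichLib.LimBC RichLib.LimTop RichLib.LimStalk

variable {W : Scheme.{u}} {F G : W.Modules} (u : F ⟶ G)

/-- The pullback of `u` vanishes at the point `z`. -/
def ZeroAt {Z : Scheme.{u}} (h : Z ⟶ W) (z : Z) : Prop :=
  (DerSch.stalkFunctor Z z).map ((Scheme.Modules.pullback h).map u) = 0

variable {Z : Scheme.{u}} (h : Z ⟶ W) {U : W.Opens}

/-- Germ of a pulled back section. -/
abbrev pgerm (M : W.Modules) (z : Z) (hz : h z ∈ U) (m : Γ(M, U)) :
    (KFlatLib.pb h M).presheaf.stalk z :=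
  (KFlatLib.pb h M).presheaf.germ (h ⁻¹ᵁ U) z hz (KFlatLib.puSec h m)

/-- Functions on `U` in the local ring at `z`. -/
abbrev rho (z : Z) (hz : h z ∈ U) : Γ(W, U) →+* Z.presheaf.stalk z :=
  (h.stalkMap z).hom.comp (W.presheaf.germ U (h z) hz).hom

theorem stalk_map_pgerm (z : Z) (hz : h z ∈ U) (m : Γ(F, U)) :
    (DerSch.stalkFunctor Z z).map ((Scheme.Modules.pullback h).map u) (pgerm h F z hz m) =
      pgerm h G z hz (u.app U m) := by
  refine (DerSch.stalkFunctor_map_germ z ((Scheme.Modules.pullback h).map u) (h ⁻¹ᵁ U) hz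
    (KFlatLib.puSec h m)).trans ?_
  exact congrArg _ (KFlatLib.puSec_natural h u m)

/-- The semilinear germ map. -/
def lmap (M : W.Modules) (z : Z) (hz : h z ∈ U) :
    letI := Module.compHom ((KFlatLib.pb h M).presheaf.stalk z) (rho h z hz)
    Γ(M, U) →ₗ[Γ(W, U)] (KFlatLib.pb h M).presheaf.stalk z :=
  letI := Module.compHom ((KFlatLib.pb h M).presheaf.stalk z) (rho h z hz)
  { toFun := pgerm h M z hz
    map_add' := fun a b => by
      show (KFlatLib.pb h M).presheaf.germ (h ⁻¹ᵁ U) z hz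
        ((((Scheme.Modules.pullbackPushforwardAdjunction h).unit.app M).app U) (a + b)) = _
      rw [map_add]
      exact map_add ((KFlatLib.pb h M).presheaf.germ (h ⁻¹ᵁ U) z hz).hom _ _
    map_smul' := fun r a => by
      show (KFlatLib.pb h M).presheaf.germ (h ⁻¹ᵁ U) z hz (KFlatLib.puSec h (r • a)) = _
      rw [KFlatLib.puSec_smul]
      show DevissLib.gm (KFlatLib.pb h M) z hz (h.app U r • KFlatLib.puSec h a) = _
      rw [DevissLib.gm_smul]
      show Z.presheaf.germ (h ⁻¹ᵁ U) z hz (h.app U r) • pgerm h M z hz a =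
        rho h z hz r • pgerm h M z hz a
      refine congrArg (· • _) ?_
      exact (Scheme.Hom.germ_stalkMap_apply h U z hz r).symm }

theorem isBaseChange_lmap (M : W.Modules) [Coh.IsQCoh M] (hU : IsAffineOpen U) (z : Z) (hz : h z ∈ U) :
    letI := (rho h z hz).toAlgebra
    letI := Module.compHom ((KFlatLib.pb h M).presheaf.stalk z) (rho h z hz)
    haveI : IsScalarTower Γ(W, U) (Z.presheaf.stalk z) ((KFlatLib.pb h M).presheaf.stalk z) :=
      IsScalarTower.of_algebraMap_smul fun _ _ => rfl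
    IsBaseChange (Z.presheaf.stalk z) (lmap h M z hz) := by
  letI := (rho h z hz).toAlgebra
  letI := Module.compHom ((KFlatLib.pb h M).presheaf.stalk z) (rho h z hz)
  haveI : IsScalarTower Γ(W, U) (Z.presheaf.stalk z) ((KFlatLib.pb h M).presheaf.stalk z) :=
    IsScalarTower.of_algebraMap_smul fun _ _ => rfl
  exact KFlatLib.isBaseChange_germ_puSec h M hU z hz (fun _ => rfl) (lmap h M z hz) fun _ => rfl

theorem pgerm_eq_zero_iff [Coh.IsQCoh G] (hU : IsAffineOpen U) (z : Z) (hz : h z ∈ U) (n : Γ(G, U)) :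
    pgerm h G z hz n = 0 ↔ Kills (rho h z hz) n := by
  letI := (rho h z hz).toAlgebra
  letI := Module.compHom ((KFlatLib.pb h G).presheaf.stalk z) (rho h z hz)
  haveI : IsScalarTower Γ(W, U) (Z.presheaf.stalk z) ((KFlatLib.pb h G).presheaf.stalk z) :=
    IsScalarTower.of_algebraMap_smul fun _ _ => rfl
  have hb := isBaseChange_lmap h G hU z hz
  have h1 : hb.equiv ((1 : Z.presheaf.stalk z) ⊗ₜ n) = pgerm h G z hz n := by
    rw [IsBaseChange.equiv_tmul, one_smul]
    rfl
  rw [← h1, LinearEquiv.map_eq_zero_iff]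
  show _ ↔ n ⊗ₜ[Γ(W, U)] (1 : Z.presheaf.stalk z) = 0
  rw [← (TensorProduct.comm Γ(W, U) (Z.presheaf.stalk z) Γ(G, U)).map_eq_zero_iff]
  rfl

theorem zeroAt_iff [Coh.IsQCoh F] {κ : Type u} (s : κ → Γ(F, U))
    (hs : Submodule.span Γ(W, U) (Set.range s) = ⊤) (hU : IsAffineOpen U) (z : Z) (hz : h z ∈ U) :
    ZeroAt u h z ↔ ∀ k, pgerm h G z hz (u.app U (s k)) = 0 := by
  refine ⟨fun hzero k => ?_, fun hk => ?_⟩
  · rw [← stalk_map_pgerm, hzero]
    rfl
  · letI := (rho h z hz).toAlgebra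
    letI := Module.compHom ((KFlatLib.pb h F).presheaf.stalk z) (rho h z hz)
    haveI : IsScalarTower Γ(W, U) (Z.presheaf.stalk z) ((KFlatLib.pb h F).presheaf.stalk z) :=
      IsScalarTower.of_algebraMap_smul fun _ _ => rfl
    have hb := isBaseChange_lmap h F hU z hz
    let φ := ((DerSch.stalkFunctor Z z).map ((Scheme.Modules.pullback h).map u)).hom
    have h1 : ∀ m : Γ(F, U), φ (pgerm h F z hz m) = 0 := by
      intro m
      have hm : m ∈ Submodule.span Γ(W, U) (Set.range s) := hs ▸ Submodule.mem_top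
      induction hm using Submodule.span_induction with
      | mem x hx => obtain ⟨k, rfl⟩ := hx; exact (stalk_map_pgerm u h z hz (s k)).trans (hk k)
      | zero => exact (congrArg φ (map_zero (lmap h F z hz))).trans (map_zero φ)
      | add a b _ _ iha ihb =>
        show φ (lmap h F z hz (a + b)) = 0
        rw [map_add]
        refine (map_add φ _ _).trans ?_
        rw [show φ (lmap h F z hz a) = 0 from iha, show φ (lmap h F z hz b) = 0 from ihb]
        exact add_zero 0
      | smul r a _ iha =>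
        show φ (lmap h F z hz (r • a)) = 0
        rw [map_smul]
        refine (map_smul φ (rho h z hz r) _).trans ?_
        rw [show φ (lmap h F z hz a) = 0 from iha]
        exact smul_zero _
    refine ModuleCat.hom_ext (LinearMap.ext fun v => ?_)
    obtain ⟨w, rfl⟩ := hb.equiv.surjective v
    show φ (hb.equiv w) = 0
    induction w using TensorProduct.induction_on with
    | zero => rw [map_zero]; exact map_zero φ
    | tmul a m =>
      rw [IsBaseChange.equiv_tmul]
      refine (map_smul φ a _).trans ?_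
      rw [show φ (lmap h F z hz m) = 0 from h1 m]
      exact smul_zero _
    | add a b ha hb' =>
      rw [map_add]
      refine (map_add φ _ _).trans ?_
      rw [ha, hb']
      exact add_zero 0

theorem exists_gens [Coh.IsQCoh F] (hF : CohB1.IsFT F) (x : W) :
    ∃ (U : W.Opens) (_ : IsAffineOpen U) (_ : x ∈ U) (κ : Type u) (_ : Fintype κ) (s : κ → Γ(F, U)),
      Submodule.span Γ(W, U) (Set.range s) = ⊤ := by
  obtain ⟨U, hU, hxU, -⟩ := exists_isAffineOpen_mem_and_subset (X := W) (x := x) (U := ⊤) trivial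
  obtain ⟨κ, hκ, s, hs⟩ := QCohLib.exists_genOn_affine hF hU
  exact ⟨U, hU, hxU, κ, hκ, s, FlatLib.span_eq_top_of_genOn hU hs⟩

theorem isOpen_zeroAt [Coh.IsQCoh F] (hF : CohB1.IsFT F) : IsOpen {z | ZeroAt u h z} := by
  refine isOpen_iff_forall_mem_open.2 fun z hz => ?_
  obtain ⟨U, hU, hzU, κ, _, s, hs⟩ := exists_gens hF (h z)
  have hk := (zeroAt_iff u h s hs hU z hzU).1 hz
  have hex : ∀ k, ∃ V : Z.Opens, z ∈ V ∧ ∀ y (_ : y ∈ V) (hy : h y ∈ U),
      pgerm h G y hy (u.app U (s k)) = 0 := by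
    intro k
    obtain ⟨V, hzV, i, i', e⟩ := TopCat.Presheaf.germ_eq (KFlatLib.pb h G).presheaf z
      (U := h ⁻¹ᵁ U) (V := h ⁻¹ᵁ U) hzU hzU (KFlatLib.puSec h (u.app U (s k))) 0
      ((hk k).trans (map_zero _).symm)
    rw [map_zero] at e
    refine ⟨V, hzV, fun y hy hyU => ?_⟩
    show (KFlatLib.pb h G).presheaf.germ (h ⁻¹ᵁ U) y hyU _ = 0
    rw [← TopCat.Presheaf.germ_res_apply (KFlatLib.pb h G).presheaf i y hy, e]
    exact map_zero _
  choose V hzV hV using hex
  refine ⟨(h ⁻¹ᵁ U : Set Z) ∩ ⋂ k, (V k : Set Z), fun y hy => ?_,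
    (h ⁻¹ᵁ U).2.inter (isOpen_iInter_of_finite fun k => (V k).2), hzU, Set.mem_iInter.2 hzV⟩
  exact (zeroAt_iff u h s hs hU y hy.1).2 fun k => hV k y (Set.mem_iInter.1 hy.2 k) hy.1

theorem map_eq_zero_iff : (Scheme.Modules.pullback h).map u = 0 ↔ ∀ z, ZeroAt u h z := by
  refine ⟨fun e z => ?_, fun H => ?_⟩
  · show (DerSch.stalkFunctor Z z).map _ = 0
    rw [e]
    exact Functor.map_zero _ _ _
  · refine Scheme.Modules.hom_ext _ _ fun V => ?_
    ext s
    refine TopCat.Presheaf.section_ext (F := ⟨_, ((Scheme.Modules.pullback h).obj G).isSheaf⟩) V _ _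
      fun y hy => ?_
    exact (DerSch.stalkFunctor_map_germ y ((Scheme.Modules.pullback h).map u) V hy s).symm.trans
      ((ConcreteCategory.congr_hom (H y) _).trans
        (map_zero (((Scheme.Modules.pullback h).obj G).presheaf.germ V y hy).hom).symm)

omit h in
theorem zeroAt_comp {Z' : Scheme.{u}} (m : Z' ⟶ Z) (h : Z ⟶ W) {h' : Z' ⟶ W} (e : m ≫ h = h') (z' : Z')
    (hz : ZeroAt u h (m z')) : ZeroAt u h' z' := by
  subst e
  let w := (Scheme.Modules.pullback h).map u
  have h1 : (DerSch.stalkFunctor Z' z').map ((Scheme.Modules.pullback m).map w) = 0 := by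
    have n : (DerSch.stalkFunctor Z' z').map ((Scheme.Modules.pullback m).map w) ≫
        (KFlatLib.stalkPullIso m z').hom.app _ = (KFlatLib.stalkPullIso m z').hom.app _ ≫
          (ModuleCat.extendScalars.{u, u, u} (m.stalkMap z').hom).map ((DerSch.stalkFunctor Z (m z')).map w) :=
      (KFlatLib.stalkPullIso m z').hom.naturality w
    rw [show (DerSch.stalkFunctor Z (m z')).map w = 0 from hz, Functor.map_zero, comp_zero] at n
    haveI : Mono ((KFlatLib.stalkPullIso m z').hom.app ((Scheme.Modules.pullback h).obj G)) :=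
      @IsIso.mono_of_iso _ _ _ _ _ (NatIso.hom_app_isIso _ _)
    exact (cancel_mono ((KFlatLib.stalkPullIso m z').hom.app _)).1 (n.trans zero_comp.symm)
  have n2 : (DerSch.stalkFunctor Z' z').map ((Scheme.Modules.pullback m).map w) ≫
      (DerSch.stalkFunctor Z' z').map ((Scheme.Modules.pullbackComp m h).hom.app G) =
      (DerSch.stalkFunctor Z' z').map ((Scheme.Modules.pullbackComp m h).hom.app F) ≫
        (DerSch.stalkFunctor Z' z').map ((Scheme.Modules.pullback (m ≫ h)).map u) := by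
    rw [← Functor.map_comp, ← Functor.map_comp]
    exact congrArg _ ((Scheme.Modules.pullbackComp m h).hom.naturality u)
  rw [h1, zero_comp] at n2
  haveI : IsIso ((Scheme.Modules.pullbackComp m h).hom.app F) := NatIso.hom_app_isIso _ _
  haveI : Epi ((DerSch.stalkFunctor Z' z').map ((Scheme.Modules.pullbackComp m h).hom.app F)) :=
    @IsIso.epi_of_iso _ _ _ _ _ (Functor.map_isIso _ _)
  exact (cancel_epi ((DerSch.stalkFunctor Z' z').map ((Scheme.Modules.pullbackComp m h).hom.app F))).1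
    (n2.symm.trans comp_zero.symm)

section stages

variable {I : Type u} [SmallCategory I] [IsCofiltered I] (A : Sys I W)

/-- Opens at the stages covering the limit cover a stage. -/
theorem exists_stage_of_opens [CompactSpace W] (O : ∀ i, (A.D.obj i).Opens)
    (hO : ∀ x : A.c.pt, ∃ i, A.c.π.app i x ∈ O i) :
    ∃ k, ∀ y : A.D.obj k, ∃ (i : I) (φ : k ⟶ i), A.D.map φ y ∈ O i := by
  classical
  choose i hi using hO
  haveI : IsAffineHom A.s := A.affine_s
  haveI : CompactSpace A.c.pt := QuasiCompact.compactSpace_of_compactSpace A.s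
  obtain ⟨T, hT⟩ := isCompact_univ.elim_finite_subcover
    (fun x => {y : A.c.pt | A.c.π.app (i x) y ∈ O (i x)})
    (fun x => (O (i x)).2.preimage (A.c.π.app (i x)).continuous)
    fun x _ => Set.mem_iUnion.mpr ⟨x, hi x⟩
  obtain ⟨j, hj⟩ := IsCofiltered.inf_objs_exists (T.image i)
  have hmem : ∀ x : T, i x.1 ∈ T.image i := fun x => Finset.mem_image_of_mem i x.2
  let V : (A.D.obj j).Opens := ⨆ x : T, A.D.map (hj (hmem x)).some ⁻¹ᵁ O (i x.1)
  have hV : A.c.π.app j ⁻¹ᵁ V = ⊤ := eq_top_iff.mpr fun x _ => by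
    obtain ⟨y, hyT, hy⟩ := Set.mem_iUnion₂.mp (hT (Set.mem_univ x))
    refine TopologicalSpace.Opens.mem_iSup.mpr ⟨⟨y, hyT⟩, ?_⟩
    show (A.D.map _).base ((A.c.π.app j).base x) ∈ O (i y)
    rw [← Scheme.Hom.comp_apply, A.c.w]
    exact hy
  haveI := A.compactSpace_obj
  haveI : ∀ {a b : I} (φ : a ⟶ b), IsAffineHom (A.D.map φ) := fun φ => A.affine_map φ
  obtain ⟨k, φ, hk⟩ := exists_map_eq_top A.D A.c A.hc V hV
  refine ⟨k, fun y => ?_⟩
  have hy : (A.D.map φ).base y ∈ V := hk.ge (Set.mem_univ y)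
  obtain ⟨x, hx⟩ := TopologicalSpace.Opens.mem_iSup.mp hy
  refine ⟨_, φ ≫ (hj (hmem x)).some, ?_⟩
  rw [A.D.map_comp, Scheme.Hom.comp_apply]
  exact hx

/-- Vanishing at a point of the limit is vanishing at a stage. -/
theorem exists_stage_zeroAt [Coh.IsQCoh F] [Coh.IsQCoh G] (hF : CohB1.IsFT F) (x : A.c.pt)
    (hx : ZeroAt u A.s x) : ∃ i, ZeroAt u (A.t i) (A.c.π.app i x) := by
  classical
  haveI : ∀ (a b : I) (f : a ⟶ b), IsAffineHom (A.D.map f) := fun a b f => A.affine_map f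
  obtain ⟨U, hU, hxU, κ, _, s, hs⟩ := exists_gens hF (A.s x)
  have hmem : ∀ i, A.t i (A.c.π.app i x) ∈ U := fun i => by
    rw [← Scheme.Hom.comp_apply, A.hs]; exact hxU
  let S : I → Type u := fun i => (A.D.obj i).presheaf.stalk (A.c.π.app i x)
  let ρ : ∀ i, Γ(W, U) →+* S i := fun i => rho (A.t i) _ (hmem i)
  let T : ∀ {i j : I}, (j ⟶ i) → (S i →+* S j) := fun φ => (trans A.D A.c φ x).hom
  let σ : ∀ i, S i →+* A.c.pt.presheaf.stalk x := fun i => ((A.c.π.app i).stalkMap x).hom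
  have rho_eq : ∀ {Z : Scheme.{u}} (h : Z ⟶ W) (z : Z) (hz : h z ∈ U) (r : Γ(W, U)),
      rho h z hz r = Z.presheaf.germ (h ⁻¹ᵁ U) z hz (h.appLE U (h ⁻¹ᵁ U) le_rfl r) := by
    intro Z h z hz r
    exact (germ_appLE h le_rfl hz r).symm
  have hT : ∀ {i j : I} (φ : j ⟶ i), (T φ).comp (ρ i) = ρ j := by
    intro i j φ
    refine RingHom.ext fun r => ?_
    have hle : A.t j ⁻¹ᵁ U ≤ A.D.map φ ⁻¹ᵁ (A.t i ⁻¹ᵁ U) := by
      rw [← Scheme.Hom.comp_preimage, A.w φ]
    show trans A.D A.c φ x (rho (A.t i) _ (hmem i) r) = rho (A.t j) _ (hmem j) r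
    rw [rho_eq, rho_eq, trans_germ A.D A.c φ x (hmem i) _ hle (hmem j)]
    refine congrArg _ ?_
    show ((A.t i).appLE U _ _ ≫ (A.D.map φ).appLE _ _ _) r = _
    simp only [Scheme.Hom.appLE_comp_appLE, A.w φ]
  have hσρ : ∀ i, (σ i).comp (ρ i) = rho A.s x hxU := by
    intro i
    refine RingHom.ext fun r => ?_
    have hle : A.s ⁻¹ᵁ U ≤ A.c.π.app i ⁻¹ᵁ (A.t i ⁻¹ᵁ U) := by
      rw [← Scheme.Hom.comp_preimage, A.hs]
    show (A.c.π.app i).stalkMap x (rho (A.t i) _ (hmem i) r) = rho A.s x hxU r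
    rw [rho_eq, rho_eq, ← germ_appLE (A.c.π.app i) hle hxU]
    refine congrArg _ ?_
    show ((A.t i).appLE U _ _ ≫ (A.c.π.app i).appLE _ _ _) r = _
    simp only [Scheme.Hom.appLE_comp_appLE, A.hs]
  obtain ⟨i₀⟩ := IsCofiltered.nonempty (C := I)
  have key : ∀ l : Finset κ, ∃ j, ∀ k ∈ l, Kills (ρ j) (u.app U (s k)) := by
    intro l
    induction l using Finset.induction with
    | empty => exact ⟨i₀, fun k hk => absurd hk (Finset.notMem_empty k)⟩
    | insert a l _ ih =>
      obtain ⟨j, hj⟩ := ih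
      obtain ⟨j', φ, hj'⟩ := exists_stage_kills S ρ T (A.c.pt.presheaf.stalk x) σ hT
        (fun φ ψ b => trans_comp A.D A.c φ ψ x b) (fun φ b => stalkMap_trans A.D A.c φ x b)
        (fun i₁ a => exists_stalkMap_eq A.D A.c A.hc i₁ x a)
        (fun i b hb => exists_trans_eq_zero A.D A.c A.hc x b hb) j (rho A.s x hxU) hσρ _
        ((pgerm_eq_zero_iff A.s hU x hxU _).1 ((zeroAt_iff u A.s s hs hU x hxU).1 hx a))
      refine ⟨j', fun k hk => ?_⟩
      rcases Finset.mem_insert.1 hk with rfl | hk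
      · exact hj'
      · exact (hj k hk).map (T φ) (hT φ)
  obtain ⟨j, hj⟩ := key Finset.univ
  exact ⟨j, (zeroAt_iff u (A.t j) s hs hU _ (hmem j)).2 fun k =>
    (pgerm_eq_zero_iff (A.t j) hU _ (hmem j) _).2 (hj k (Finset.mem_univ k))⟩

/-- A map out of a finite type quasi-coherent module vanishing on the limit vanishes at a stage. -/
theorem exists_stage_zero [CompactSpace W] [Coh.IsQCoh F] [Coh.IsQCoh G] (hF : CohB1.IsFT F)
    (h : (Scheme.Modules.pullback A.s).map u = 0) : ∃ i, (Scheme.Modules.pullback (A.t i)).map u = 0 := by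
  obtain ⟨k, hk⟩ := exists_stage_of_opens A (fun i => ⟨{z | ZeroAt u (A.t i) z}, isOpen_zeroAt u (A.t i) hF⟩)
    fun x => exists_stage_zeroAt u A hF x ((map_eq_zero_iff u A.s).1 h x)
  refine ⟨k, (map_eq_zero_iff u (A.t k)).2 fun y => ?_⟩
  obtain ⟨i, φ, hi⟩ := hk y
  exact zeroAt_comp u (A.D.map φ) (A.t i) (A.w φ) y hi

end stages

end FlatFunLimLib
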